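import Cfsg.Agent.Lib.Comp.HN.Q3o
import Cfsg.Agent.Lib.Comp.PermGrp

set_option maxRecDepth 100000
set_option Elab.async false

namespace Cfsg.Lib.Comp.HNq

universe u

abbrev iv := HN.iv

noncomputable def R : List (List ℕ × ℕ) := [([3],5),
 ([1,1,3,1,1,4],0),
 ([2,4,1,3],2),
 ([2,3,3,1,3,3,3],2),
 ([1,3],7),
 ([1,3,1,3,3,3],3),
 ([1,2],0),
 ([3,4],0)]

def L : List ℕ := [1,2,3,4]

end Cfsg.Lib.Comp.HNq
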